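import Groth.Agent.Lib.AmpleFib.Limit
import Groth.Agent.Lib.Descend.Stage
import Groth.Agent.Lib.RelAmple18.Generated
import Groth.Agent.Lib.RelAmple18.Generation
import Groth.Agent.Lib.VeryAmple11.RelCrit
import Groth.Agent.Lib.GGen15.Counit

/-!
# Relative generation of an invertible module descends to a stage of a limit
-/

set_option autoImplicit false
set_option linter.style.haveILetI false
set_option backward.isDefEq.respectTransparency false

universe u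

open CategoryTheory CategoryTheory.Limits AlgebraicGeometry

namespace Groth.Agent.GenStage2

open Groth.Agent

theorem gg_of_iso {X : Scheme.{u}} {F F' : X.Modules} (e : F ≅ F') (h : Curv2.IsGloballyGenerated F) :
    Curv2.IsGloballyGenerated F' := by
  obtain ⟨ι, p, hp⟩ := h
  exact ⟨ι, p ≫ e.hom, epi_comp _ _⟩

/-- The pullback of `L` along `g` is generated by sections at every point. -/
def GenAt {X Z : Scheme.{u}} (L : X.Modules) (g : Z ⟶ X) : Prop :=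
  ∀ z : Z, ∃ G : Z.Opens, z ∈ G ∧ Amp.HasSec ((Scheme.Modules.pullback g).obj L) 1 G

theorem GenAt.comp {X Z Z' : Scheme.{u}} {L : X.Modules} (hL : PicF.IsInvertible L) {g : Z ⟶ X}
    (h : GenAt L g) (u : Z' ⟶ Z) {g' : Z' ⟶ X} (w : u ≫ g = g') : GenAt L g' := fun z => by
  obtain ⟨G, hz, hG⟩ := h (u z)
  exact ⟨u ⁻¹ᵁ G, hz, (hG.pullback u (PicLoc.isInvertible_pullback g hL)).map_iso
    ((ModLimH13.cmp u g w).app L)⟩

theorem GenAt.isGloballyGenerated {X Z : Scheme.{u}} {L : X.Modules} (hL : PicF.IsInvertible L)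
    {g : Z ⟶ X} (h : GenAt L g) : Curv2.IsGloballyGenerated ((Scheme.Modules.pullback g).obj L) := by
  refine RA.isGloballyGenerated_of_gen (PicLoc.isInvertible_pullback g hL) fun z => ?_
  obtain ⟨G, hz, s, hs⟩ := h z
  refine ⟨s ≫ (M2.tensorPowOne _).hom, ?_⟩
  rw [Amp.genLocus_comp_iso (M2.tensorPowOne _) s, hs]
  exact hz

theorem genAt_of_isGloballyGenerated {X Z : Scheme.{u}} {L : X.Modules} (hL : PicF.IsInvertible L)
    (g : Z ⟶ X) (h : Curv2.IsGloballyGenerated ((Scheme.Modules.pullback g).obj L)) : GenAt L g := fun z => by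
  obtain ⟨t, ht⟩ := RA.exists_gen_of_isGloballyGenerated (PicLoc.isInvertible_pullback g hL) h z
  exact ⟨_, ht, Amp.hasSec_of_iso (M2.tensorPowOne _).symm t⟩

section

variable {I : Type u} [SmallCategory I] [IsCofiltered I] {D : I ⥤ Scheme.{u}} {c : Cone D}
  [∀ (i j : I) (f : i ⟶ j), IsAffineHom (D.map f)] [∀ i, CompactSpace (D.obj i)]
  [∀ i, QuasiSeparatedSpace (D.obj i)]

/-- Generation at the limit holds at a stage. -/
theorem exists_genAt_stage (hc : IsLimit c) {X : Scheme.{u}} {L : X.Modules} (hL : PicF.IsInvertible L)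
    {i : I} (g : D.obj i ⟶ X) (h : GenAt L (c.π.app i ≫ g)) :
    ∃ (j : I) (φ : j ⟶ i), GenAt L (D.map φ ≫ g) := by
  classical
  haveI := fun {i j : I} (f : i ⟶ j) => (inferInstance : IsAffineHom (D.map f))
  have hLi := PicLoc.isInvertible_pullback g hL
  haveI : CompactSpace c.pt := Scheme.compactSpace_of_isLimit D c hc
  have hloc : ∀ x : c.pt, ∃ (k : Over i) (G : (D.obj k.left).Opens), x ∈ c.π.app k.left ⁻¹ᵁ G ∧
      Amp.HasSec ((Scheme.Modules.pullback (D.map k.hom ≫ g)).obj L) 1 G := by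
    intro x
    obtain ⟨G₀, hx, hG₀⟩ := h x
    obtain ⟨s, hs⟩ := hG₀.map_iso ((ModLimH13.cmp (c.π.app i) g rfl).app L).symm
    obtain ⟨j, φ, G, hG, hGs⟩ := AmpleFib.exists_hasSec_stage hc hLi 1 s
    refine ⟨Over.mk φ, G, ?_, hG.map_iso ((ModLimH13.cmp (D.map φ) g rfl).app L)⟩
    show x ∈ c.π.app j ⁻¹ᵁ G
    rw [hGs]
    exact hs.ge hx
  choose k G hxG hG using hloc
  obtain ⟨T, hT⟩ := isCompact_univ.elim_finite_subcover
    (fun x => ((c.π.app (k x).left ⁻¹ᵁ G x : c.pt.Opens) : Set c.pt))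
    (fun x => (c.π.app (k x).left ⁻¹ᵁ G x).isOpen)
    fun x _ => Set.mem_iUnion.2 ⟨x, hxG x⟩
  obtain ⟨K, hK⟩ := IsCofiltered.inf_objs_exists (T.image k)
  let a : ∀ x : T, K ⟶ k x.1 := fun x => (hK (Finset.mem_image_of_mem k x.2)).some
  let G' : T → (D.obj K.left).Opens := fun x => D.map (a x).left ⁻¹ᵁ G x.1
  have hcov : c.π.app K.left ⁻¹ᵁ (⨆ x, G' x) = ⊤ := by
    refine top_le_iff.1 fun y _ => ?_
    obtain ⟨x, hx, hy⟩ := Set.mem_iUnion₂.1 (hT (Set.mem_univ y))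
    rw [Scheme.Hom.preimage_iSup, TopologicalSpace.Opens.mem_iSup]
    refine ⟨⟨x, hx⟩, ?_⟩
    rw [← Scheme.Hom.comp_preimage, c.w]
    exact hy
  obtain ⟨j, f, hf⟩ := exists_map_eq_top D c hc (⨆ x, G' x) hcov
  refine ⟨j, f ≫ K.hom, fun y => ?_⟩
  have hy : D.map f y ∈ ⨆ x, G' x := by
    have : y ∈ D.map f ⁻¹ᵁ (⨆ x, G' x) := by rw [hf]; trivial
    exact this
  obtain ⟨x, hx⟩ := TopologicalSpace.Opens.mem_iSup.1 hy
  refine ⟨D.map (f ≫ (a x).left) ⁻¹ᵁ G x.1, ?_, ?_⟩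
  · rw [Functor.map_comp, Scheme.Hom.comp_preimage]; exact hx
  · refine ((hG x.1).pullback _ (PicLoc.isInvertible_pullback _ hL)).map_iso ?_
    exact (ModLimH13.cmp (D.map (f ≫ (a x).left)) (D.map (k x.1).hom ≫ g)
      (by rw [← Category.assoc, ← D.map_comp, Category.assoc, Over.w (a x)])).app L

end

section

variable {I : Type u} [SmallCategory I] [IsCofiltered I] {D : I ⥤ Scheme.{u}} {c : Cone D}
  [∀ (i j : I) (u : i ⟶ j), IsAffineHom (D.map u)] {i₀ : I}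

/-- Relative generation descends. -/
theorem exists_stage_counit_epi (hc : IsLimit c) [CompactSpace (D.obj i₀)] [QuasiSeparatedSpace (D.obj i₀)]
    {X₀ Y₀ : Scheme.{u}} (f₀ : X₀ ⟶ Y₀) (g₀ : Y₀ ⟶ D.obj i₀) [QuasiCompact g₀]
    [QuasiCompact (f₀ ≫ g₀)] [QuasiSeparated (f₀ ≫ g₀)] [QuasiSeparated g₀]
    {L₀ : X₀.Modules} (hL₀ : PicF.IsInvertible L₀)
    {X Y : Scheme.{u}} (f : X ⟶ Y) (g : Y ⟶ c.pt) (qY : Y ⟶ Y₀) (qX : X ⟶ X₀)
    (hY : IsPullback qY g g₀ (c.π.app i₀)) (hX : IsPullback qX f f₀ qY)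
    (hgen : Epi ((Scheme.Modules.pullbackPushforwardAdjunction f).counit.app ((Scheme.Modules.pullback qX).obj L₀))) :
    ∃ (j : I) (φ : j ⟶ i₀), ∀ (k : I) (ψ : k ⟶ j) (Xk Yk : Scheme.{u}) (fk : Xk ⟶ Yk) (gk : Yk ⟶ D.obj k)
      (pY : Yk ⟶ Y₀) (pX : Xk ⟶ X₀), IsPullback pY gk g₀ (D.map (ψ ≫ φ)) → IsPullback pX fk f₀ pY →
        Epi ((Scheme.Modules.pullbackPushforwardAdjunction fk).counit.app ((Scheme.Modules.pullback pX).obj L₀)) := by
  classical
  haveI := fun {i j : I} (f : i ⟶ j) => (inferInstance : IsAffineHom (D.map f))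
  haveI : CompactSpace Y₀ := QuasiCompact.compactSpace_of_compactSpace g₀
  haveI : QuasiCompact f₀ := QuasiCompact.of_comp f₀ g₀
  haveI : QuasiSeparatedSpace X₀ := quasiSeparatedSpace_of_quasiSeparated (f₀ ≫ g₀)
  haveI : QuasiSeparated f₀ := QuasiSeparated.of_comp f₀ g₀
  haveI : QuasiCompact f := MorphismProperty.of_isPullback hX ‹QuasiCompact f₀›
  haveI : QuasiSeparated f := MorphismProperty.of_isPullback hX ‹QuasiSeparated f₀›
  haveI := isAffineHom_π_app D c hc i₀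
  haveI : IsAffineHom qY := MorphismProperty.of_isPullback hY.flip (inferInstance : IsAffineHom (c.π.app i₀))
  let E := Over.forget i₀ ⋙ D
  let t := Descend.overT D i₀
  let c' : Cone E := c.whisker (Over.forget i₀)
  have hc' : IsLimit c' := (Functor.Initial.isLimitWhiskerEquiv (Over.forget i₀) c).symm hc
  have hq : ∀ k, c'.π.app k ≫ t.app k = c.π.app i₀ := fun k => c.w k.hom
  have key : ∀ V : Y₀.affineOpens, ∃ K : Over i₀,
      GenAt L₀ (pullback.fst ((f₀ ⁻¹ᵁ V.1).ι ≫ f₀ ≫ g₀) (t.app K) ≫ (f₀ ⁻¹ᵁ V.1).ι) := by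
    intro V
    let W : X₀.Opens := f₀ ⁻¹ᵁ V.1
    let h₀ := W.ι ≫ f₀ ≫ g₀
    haveI : CompactSpace W := isCompact_iff_compactSpace.mp (QuasiCompact.isCompact_preimage (f := f₀) _ V.1.2 V.2.isCompact)
    haveI : QuasiSeparatedSpace W := quasiSeparatedSpace_of_quasiSeparated W.ι
    have hP : IsPullback (qX ∣_ W) ((qX ⁻¹ᵁ W).ι ≫ (f ≫ g)) h₀ (c.π.app i₀) :=
      (isPullback_morphismRestrict qX W).paste_vert (hX.paste_vert hY)
    let e := Descend.pbCone E t h₀ c' hq hP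
    have he : IsLimit e := Descend.pbIsLimit E t h₀ c' hq hP hc'
    haveI : ∀ k, IsAffineHom (t.app k) := fun k => Descend.overT_isAffineHom D i₀ k
    haveI : ∀ k, CompactSpace ((Descend.pbDiagram E t h₀).obj k) := fun k => Descend.pb_compactSpace E t h₀ k
    haveI : ∀ k, QuasiSeparatedSpace ((Descend.pbDiagram E t h₀).obj k) := fun k =>
      Descend.pb_quasiSeparatedSpace E t h₀ k
    haveI : ∀ (k l : Over i₀) (a : k ⟶ l), IsAffineHom ((Descend.pbDiagram E t h₀).map a) := fun k l a =>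
      Descend.pb_isAffineHom_map E t h₀ a
    have hgg : Curv2.IsGloballyGenerated
        (((Scheme.Modules.pullback qX).obj L₀).restrict (f ⁻¹ᵁ (qY ⁻¹ᵁ V.1)).ι) := by
      haveI := hgen
      exact GGen15.isGloballyGenerated_of_epi_counit f
        (Twist.isQCoh_of_isInvertible (PicLoc.isInvertible_pullback qX hL₀)) (V.2.preimage qY)
    rw [show f ⁻¹ᵁ (qY ⁻¹ᵁ V.1) = qX ⁻¹ᵁ W by
      rw [← Scheme.Hom.comp_preimage, ← hX.w, Scheme.Hom.comp_preimage]] at hgg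
    have hgen' : GenAt L₀ ((qX ⁻¹ᵁ W).ι ≫ qX) := by
      have h1 := genAt_of_isGloballyGenerated (PicLoc.isInvertible_pullback qX hL₀) (qX ⁻¹ᵁ W).ι
        (gg_of_iso ((Scheme.Modules.restrictFunctorIsoPullback (qX ⁻¹ᵁ W).ι).app _) hgg)
      intro z
      obtain ⟨G, hz, hG⟩ := h1 z
      exact ⟨G, hz, hG.map_iso ((ModLimH13.cmp (qX ⁻¹ᵁ W).ι qX rfl).app L₀)⟩
    obtain ⟨K, a, hK⟩ := exists_genAt_stage he hL₀ (i := Over.mk (𝟙 i₀))
      (pullback.fst h₀ (t.app (Over.mk (𝟙 i₀))) ≫ W.ι) (hgen'.comp hL₀ (𝟙 _) (by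
        rw [Category.id_comp, ← morphismRestrict_ι, ← Category.assoc, Descend.pbCone_fst]))
    refine ⟨K, hK.comp hL₀ (𝟙 _) ?_⟩
    rw [Category.id_comp, ← Category.assoc, Descend.pbMap_fst]
  choose K hK using key
  obtain ⟨S, hS⟩ := ModLimH13.exists_finset_affine_cover (⊤ : Y₀.Opens) isCompact_univ
  obtain ⟨J, hJ⟩ := IsCofiltered.inf_objs_exists (S.image K)
  refine ⟨J.left, J.hom, fun k ψ Xk Yk fk gk pY pX hYk hXk => ?_⟩
  haveI : IsAffineHom pY := MorphismProperty.of_isPullback hYk.flip (inferInstance : IsAffineHom (D.map (ψ ≫ J.hom)))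
  refine VA11.epi_counit_of_cover fk _ (fun V : S => pY ⁻¹ᵁ V.1.1) (fun x => ?_) fun V => ?_
  · obtain ⟨U, hU, hxU⟩ := hS.2 (pY (fk x)) trivial
    exact ⟨⟨U, hU⟩, hxU⟩
  · let Z := fk ⁻¹ᵁ (pY ⁻¹ᵁ V.1.1)
    let a : J ⟶ K V.1 := (hJ (Finset.mem_image_of_mem K V.2)).some
    have hZ : Z ≤ pX ⁻¹ᵁ (f₀ ⁻¹ᵁ V.1.1) := by
      rw [← Scheme.Hom.comp_preimage, hXk.w, Scheme.Hom.comp_preimage]
    let u : Z.toScheme ⟶ pullback ((f₀ ⁻¹ᵁ V.1.1).ι ≫ f₀ ≫ g₀) (t.app (K V.1)) :=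
      pullback.lift (pX.resLE _ Z hZ) (Z.ι ≫ fk ≫ gk ≫ D.map (ψ ≫ a.left)) (by
        rw [Scheme.Hom.resLE_comp_ι_assoc, reassoc_of% hXk.w, hYk.w]
        simp only [Category.assoc]
        congr 3
        show D.map (ψ ≫ J.hom) = D.map (ψ ≫ a.left) ≫ D.map (K V.1).hom
        rw [← D.map_comp, Category.assoc, Over.w a])
    have h1 : GenAt L₀ (Z.ι ≫ pX) := (hK V.1).comp hL₀ u (by
      rw [← Category.assoc, pullback.lift_fst, Scheme.Hom.resLE_comp_ι])
    exact gg_of_iso (((ModLimH13.cmp Z.ι pX rfl).app L₀).symm ≪≫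
      ((Scheme.Modules.restrictFunctorIsoPullback Z.ι).app _).symm) (h1.isGloballyGenerated hL₀)

end

end Groth.Agent.GenStage2
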